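import Cfsg.Agent.H510.T3S.Main
import Cfsg.Agent.H691.T3.Types

/-!
# The sporadic groups in S4855, in the form asked for (helper510)
-/

set_option autoImplicit false

namespace Cfsg.Agent.H510.T3S

open Cfsg Cfsg.Agent.H691 Cfsg.Agent.H691.T3

/-- **The socle is not sporadic.** -/
theorem spor_false3 {A : Type*} [Group A] [Finite A] {S : Subgroup A} (h : AS A S) {p F : ℕ} (hp : p.Prime)
    (hF : F ≠ 0) (h3 : 3 ≤ p ^ F) (hpS : p ∣ Nat.card S) (hD : charDegrees A ⊆ DT (p ^ F))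
    (hK : IsSporadicGroup S ∨ Lie.IsoTits S) : False :=
  spor_false3' (fun {_A} _ _ {_S} h {_p _F} hp hF h3 hpS hD hi => types3 h hp hF h3 hpS hD hi) h hp hF h3 hpS hD hK

end Cfsg.Agent.H510.T3S
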