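import Cfsg.Agent.H510.T3S.Rows
import Cfsg.Agent.H934.OutB
import Cfsg.Agent.TitsK.Model
import Cfsg.Agent.TitsK.Inst
import Cfsg.Agent.TitsK.SheetT
import Cfsg.Agent.NotCT.Orders
import Cfsg.Agent.S2060
import Cfsg.Agent.S2061
import Cfsg.Agent.S2062
import Cfsg.Agent.S2063
import Cfsg.Agent.S2064
import Cfsg.Agent.S2065
import Cfsg.Agent.S2066
import Cfsg.Agent.S2067
import Cfsg.Agent.S2068
import Cfsg.Agent.S2069
import Cfsg.Agent.S2070
import Cfsg.Agent.S2071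
import Cfsg.Agent.S2072
import Cfsg.Agent.S2073
import Cfsg.Agent.S2074
import Cfsg.Agent.S2075
import Cfsg.Agent.S2076
import Cfsg.Agent.S2077
import Cfsg.Agent.S2078
import Cfsg.Agent.S2079
import Cfsg.Agent.S2080
import Cfsg.Agent.S2081
import Cfsg.Agent.S2082
import Cfsg.Agent.S2083
import Cfsg.Agent.S2084
import Cfsg.Agent.S2085

/-!
# The sporadic groups in S4855 (helper510)

`spor_false3` : the socle is not sporadic (and not the Tits group), given the divisibilities `Types3`.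
-/

set_option autoImplicit false

namespace Cfsg.Agent.H510.T3S

open Cfsg Cfsg.Agent.H691 Cfsg.Agent.H691.T3 Cfsg.Agent.H934.OutB

universe u v

theorem out_dvd' {X : Type u} [Group X] {Y : Type v} [Group Y] (h : Nat.card (Cfsg.Out Y) ∣ 2)
    (e : Nonempty (X ≃* Y)) : Nat.card (Cfsg.Out X) ∣ 2 := by
  obtain ⟨e⟩ := e
  rwa [card_out_congr e]

theorem out_dvd {X : Type u} {Y : Type*} [Group X] [Group Y] (e : Nonempty (X ≃* Y)) {n : ℕ}
    (h : Nat.card (Cfsg.Out Y) = n) (hn : n ∣ 2) : Nat.card (Cfsg.Out X) ∣ 2 := by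
  obtain ⟨e⟩ := e
  rw [card_out_congr e, h]
  exact hn

/-- The data of a sporadic group. -/
def D3 (S : Type u) [Group S] : Prop :=
  Nat.card (Cfsg.Out S) ∣ 2 ∧ ∃ (ord k : ℕ) (l : List (ℕ × ℕ)) (qs : List ℕ), Nat.card S = ord ∧
    OrdDiv.valid l ord = true ∧ 2 * ord < 2 ^ k ∧ chk ord l qs k = true ∧ ∀ q ∈ qs, Kill S (ds q)

variable {S : Type u} [Group S]

theorem tits_d3 [Finite S] (hS : Lie.IsoTits S) : D3 S := by
  have hout : Nat.card (Cfsg.Out S) ∣ 2 := by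
    obtain ⟨e⟩ := hS
    obtain ⟨e'⟩ := Cfsg.Agent.TitsK.exists_equiv
    have hfin : Finite Cfsg.Agent.FourTwo.Base.LL := by infer_instance
    have h1 : Nat.card (Cfsg.Out ↥Cfsg.Agent.TitsK.TT) ∣ 2 := Cfsg.Agent.TitsK.tdata.index_inn
    exact out_dvd' h1 ⟨e.trans e'⟩
  exact ⟨hout, _, 27, [(2, 11), (3, 3), (5, 2), (13, 1)],
    [3], NotCT.Orders.tits hS, by decide +kernel, by norm_num, by decide +kernel, T3S.tits hS⟩

theorem m11_d3 [Finite S] (hS : Spor.IsoM11 S) : D3 S := by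
  have hout : Nat.card (Cfsg.Out S) ∣ 2 := out_dvd hS Cfsg.Agent.S2060.result (by norm_num)
  exact ⟨hout, _, 15, [(2, 4), (3, 2), (5, 1), (11, 1)],
    [], NotCT.Orders.m11 hS, by decide +kernel, by norm_num, by decide +kernel, forall_mem_nil⟩

theorem m12_d3 [Finite S] (hS : Spor.IsoM12 S) : D3 S := by
  have hout : Nat.card (Cfsg.Out S) ∣ 2 := out_dvd hS Cfsg.Agent.S2061.result (by norm_num)
  exact ⟨hout, _, 19, [(2, 6), (3, 3), (5, 1), (11, 1)],
    [], NotCT.Orders.m12 hS, by decide +kernel, by norm_num, by decide +kernel, forall_mem_nil⟩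

theorem m22_d3 [Finite S] (hS : Spor.IsoM22 S) : D3 S := by
  have hout : Nat.card (Cfsg.Out S) ∣ 2 := out_dvd hS Cfsg.Agent.S2062.result (by norm_num)
  exact ⟨hout, _, 21, [(2, 7), (3, 2), (5, 1), (7, 1), (11, 1)],
    [4], NotCT.Orders.m22 hS, by decide +kernel, by norm_num, by decide +kernel, T3S.m22 hS⟩

theorem m23_d3 [Finite S] (hS : Spor.IsoM23 S) : D3 S := by
  have hout : Nat.card (Cfsg.Out S) ∣ 2 := out_dvd hS Cfsg.Agent.S2063.result (by norm_num)
  exact ⟨hout, _, 26, [(2, 7), (3, 2), (5, 1), (7, 1), (11, 1), (23, 1)],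
    [4], NotCT.Orders.m23 hS, by decide +kernel, by norm_num, by decide +kernel, T3S.m23 hS⟩

theorem m24_d3 [Finite S] (hS : Spor.IsoM24 S) : D3 S := by
  have hout : Nat.card (Cfsg.Out S) ∣ 2 := out_dvd hS Cfsg.Agent.S2064.result (by norm_num)
  exact ⟨hout, _, 30, [(2, 10), (3, 3), (5, 1), (7, 1), (11, 1), (23, 1)],
    [4], NotCT.Orders.m24 hS, by decide +kernel, by norm_num, by decide +kernel, T3S.m24 hS⟩

theorem j1_d3 [Finite S] (hs : IsSimpleGroup S) (hna : ¬ ∀ a b : S, a * b = b * a) (hS : Spor.IsoJ1 S) : D3 S := by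
  have hout : Nat.card (Cfsg.Out S) ∣ 2 := out_dvd hS Cfsg.Agent.S2065.result (by norm_num)
  exact ⟨hout, _, 20, [(2, 3), (3, 1), (5, 1), (7, 1), (11, 1), (19, 1)],
    [4, 7, 11], NotCT.Orders.j1 hS, by decide +kernel, by norm_num, by decide +kernel, T3S.j1 hs hna hS⟩

theorem j2_d3 [Finite S] (hS : Spor.IsoJ2 S) : D3 S := by
  have hout : Nat.card (Cfsg.Out S) ∣ 2 := out_dvd hS Cfsg.Agent.S2066.result (by norm_num)
  exact ⟨hout, _, 22, [(2, 7), (3, 3), (5, 2), (7, 1)],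
    [4], NotCT.Orders.j2 hS, by decide +kernel, by norm_num, by decide +kernel, T3S.j2 hS⟩

theorem j3_d3 [Finite S] (hS : Spor.IsoJ3 S) : D3 S := by
  have hout : Nat.card (Cfsg.Out S) ∣ 2 := by
    obtain ⟨F, _, _, ω, hF, hω, e⟩ := hS
    exact out_dvd e (Cfsg.Agent.S2067.result hF ω hω) (by norm_num)
  exact ⟨hout, _, 28, [(2, 7), (3, 5), (5, 1), (17, 1), (19, 1)],
    [], NotCT.Orders.j3 hS, by decide +kernel, by norm_num, by decide +kernel, forall_mem_nil⟩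

theorem j4_d3 [Finite S] (hS : Spor.IsoJ4 S) : D3 S := by
  have hout : Nat.card (Cfsg.Out S) ∣ 2 := out_dvd hS Cfsg.Agent.S2068.result (by norm_num)
  exact ⟨hout, _, 69, [(2, 21), (3, 3), (5, 1), (7, 1), (11, 3), (23, 1), (29, 1), (31, 1), (37, 1), (43, 1)],
    [4, 5], NotCT.Orders.j4 hS, by decide +kernel, by norm_num, by decide +kernel, T3S.j4 hS⟩

theorem co1_d3 [Finite S] (hS : Spor.IsoCo1 S) : D3 S := by
  have hout : Nat.card (Cfsg.Out S) ∣ 2 := out_dvd hS Cfsg.Agent.S2069.result (by norm_num)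
  exact ⟨hout, _, 64, [(2, 21), (3, 9), (5, 4), (7, 2), (11, 1), (13, 1), (23, 1)],
    [3, 4, 9], NotCT.Orders.co1 hS, by decide +kernel, by norm_num, by decide +kernel, T3S.co1 hS⟩

theorem co2_d3 [Finite S] (hS : Spor.IsoCo2 S) : D3 S := by
  have hout : Nat.card (Cfsg.Out S) ∣ 2 := out_dvd hS Cfsg.Agent.S2070.result (by norm_num)
  exact ⟨hout, _, 48, [(2, 18), (3, 6), (5, 3), (7, 1), (11, 1), (23, 1)],
    [4], NotCT.Orders.co2 hS, by decide +kernel, by norm_num, by decide +kernel, T3S.co2 hS⟩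

theorem co3_d3 [Finite S] (hS : Spor.IsoCo3 S) : D3 S := by
  have hout : Nat.card (Cfsg.Out S) ∣ 2 := out_dvd hS Cfsg.Agent.S2071.result (by norm_num)
  exact ⟨hout, _, 41, [(2, 10), (3, 7), (5, 3), (7, 1), (11, 1), (23, 1)],
    [4], NotCT.Orders.co3 hS, by decide +kernel, by norm_num, by decide +kernel, T3S.co3 hS⟩

theorem mcl_d3 [Finite S] (hS : Spor.IsoMcL S) : D3 S := by
  have hout : Nat.card (Cfsg.Out S) ∣ 2 := out_dvd hS Cfsg.Agent.S2073.result (by norm_num)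
  exact ⟨hout, _, 32, [(2, 7), (3, 6), (5, 3), (7, 1), (11, 1)],
    [4], NotCT.Orders.mcl hS, by decide +kernel, by norm_num, by decide +kernel, T3S.mcl hS⟩

theorem hs_d3 [Finite S] (hS : Spor.IsoHS S) : D3 S := by
  have hout : Nat.card (Cfsg.Out S) ∣ 2 := out_dvd hS Cfsg.Agent.S2072.result (by norm_num)
  exact ⟨hout, _, 28, [(2, 9), (3, 2), (5, 3), (7, 1), (11, 1)],
    [4], NotCT.Orders.hs hS, by decide +kernel, by norm_num, by decide +kernel, T3S.hs hS⟩

theorem suz_d3 [Finite S] (hS : Spor.IsoSuz S) : D3 S := by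
  have hout : Nat.card (Cfsg.Out S) ∣ 2 := out_dvd hS Cfsg.Agent.S2074.result (by norm_num)
  exact ⟨hout, _, 41, [(2, 13), (3, 7), (5, 2), (7, 1), (11, 1), (13, 1)],
    [3, 4, 9], NotCT.Orders.suz hS, by decide +kernel, by norm_num, by decide +kernel, T3S.suz hS⟩

theorem he_d3 [Finite S] (hS : Spor.IsoHe S) : D3 S := by
  have hout : Nat.card (Cfsg.Out S) ∣ 2 := out_dvd hS Cfsg.Agent.S2075.result (by norm_num)
  exact ⟨hout, _, 34, [(2, 10), (3, 3), (5, 2), (7, 3), (17, 1)],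
    [4], NotCT.Orders.he hS, by decide +kernel, by norm_num, by decide +kernel, T3S.he hS⟩

theorem ru_d3 [Finite S] (hS : Spor.IsoRu S) : D3 S := by
  have hout : Nat.card (Cfsg.Out S) ∣ 2 := out_dvd hS Cfsg.Agent.S2077.result (by norm_num)
  exact ⟨hout, _, 40, [(2, 14), (3, 3), (5, 3), (7, 1), (13, 1), (29, 1)],
    [3, 4, 9], NotCT.Orders.ru hS, by decide +kernel, by norm_num, by decide +kernel, T3S.ru hS⟩

theorem on_d3 [Finite S] (hs : IsSimpleGroup S) (hna : ¬ ∀ a b : S, a * b = b * a) (hS : Spor.IsoON S) : D3 S := by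
  have hout : Nat.card (Cfsg.Out S) ∣ 2 := out_dvd hS Cfsg.Agent.S2078.result (by norm_num)
  exact ⟨hout, _, 41, [(2, 9), (3, 4), (5, 1), (7, 3), (11, 1), (19, 1), (31, 1)],
    [4, 5, 7, 11], NotCT.Orders.on hS, by decide +kernel, by norm_num, by decide +kernel, T3S.on hs hna hS⟩

theorem ly_d3 [Finite S] (hS : Spor.IsoLy S) : D3 S := by
  have hout : Nat.card (Cfsg.Out S) ∣ 2 := out_dvd hS Cfsg.Agent.S2076.result (by norm_num)
  exact ⟨hout, _, 58, [(2, 8), (3, 7), (5, 6), (7, 1), (11, 1), (31, 1), (37, 1), (67, 1)],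
    [4, 5], NotCT.Orders.ly hS, by decide +kernel, by norm_num, by decide +kernel, T3S.ly hS⟩

theorem fi22_d3 [Finite S] (hS : Spor.IsoFi22 S) : D3 S := by
  have hout : Nat.card (Cfsg.Out S) ∣ 2 := out_dvd hS Cfsg.Agent.S2079.result (by norm_num)
  exact ⟨hout, _, 48, [(2, 17), (3, 9), (5, 2), (7, 1), (11, 1), (13, 1)],
    [3, 4, 9], NotCT.Orders.fi22 hS, by decide +kernel, by norm_num, by decide +kernel, T3S.fi22 hS⟩

theorem fi23_d3 [Finite S] (hS : Spor.IsoFi23 S) : D3 S := by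
  have hout : Nat.card (Cfsg.Out S) ∣ 2 := out_dvd hS Cfsg.Agent.S2080.result (by norm_num)
  exact ⟨hout, _, 64, [(2, 18), (3, 13), (5, 2), (7, 1), (11, 1), (13, 1), (17, 1), (23, 1)],
    [3, 4, 9, 16], NotCT.Orders.fi23 hS, by decide +kernel, by norm_num, by decide +kernel, T3S.fi23 hS⟩

theorem fi24_d3 [Finite S] (hS : Spor.IsoFi24' S) : D3 S := by
  have hout : Nat.card (Cfsg.Out S) ∣ 2 := out_dvd hS Cfsg.Agent.S2081.result (by norm_num)
  exact ⟨hout, _, 83, [(2, 21), (3, 16), (5, 2), (7, 3), (11, 1), (13, 1), (17, 1), (23, 1), (29, 1)],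
    [3, 4, 9, 16], NotCT.Orders.fi24 hS, by decide +kernel, by norm_num, by decide +kernel, T3S.fi24 hS⟩

theorem hn_d3 [Finite S] (hs : IsSimpleGroup S) (hna : ¬ ∀ a b : S, a * b = b * a) (hS : Spor.IsoHN S) : D3 S := by
  have hout : Nat.card (Cfsg.Out S) ∣ 2 := out_dvd hS Cfsg.Agent.S2082.result (by norm_num)
  exact ⟨hout, _, 50, [(2, 14), (3, 6), (5, 6), (7, 1), (11, 1), (19, 1)],
    [4, 7, 11], NotCT.Orders.hn hS, by decide +kernel, by norm_num, by decide +kernel, T3S.hn hs hna hS⟩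

theorem th_d3 [Finite S] (hs : IsSimpleGroup S) (hna : ¬ ∀ a b : S, a * b = b * a) (hS : Spor.IsoTh S) : D3 S := by
  have hout : Nat.card (Cfsg.Out S) ∣ 2 := out_dvd hS Cfsg.Agent.S2083.result (by norm_num)
  exact ⟨hout, _, 59, [(2, 15), (3, 10), (5, 3), (7, 2), (13, 1), (19, 1), (31, 1)],
    [3, 4, 5, 7, 9, 25], NotCT.Orders.th hS, by decide +kernel, by norm_num, by decide +kernel, T3S.th hs hna hS⟩

theorem b_d3 [Finite S] (hS : Spor.IsoB S) : D3 S := by
  have hout : Nat.card (Cfsg.Out S) ∣ 2 := out_dvd hS Cfsg.Agent.S2084.result (by norm_num)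
  exact ⟨hout, _, 114, [(2, 41), (3, 13), (5, 6), (7, 2), (11, 1), (13, 1), (17, 1), (19, 1), (23, 1), (31, 1), (47, 1)],
    [3, 4, 5, 7, 9, 11, 16, 25], NotCT.Orders.b hS, by decide +kernel, by norm_num, by decide +kernel, T3S.b hS⟩

theorem m_d3 [Finite S] (hS : Spor.IsoM S) : D3 S := by
  have hout : Nat.card (Cfsg.Out S) ∣ 2 := out_dvd hS Cfsg.Agent.S2085.result (by norm_num)
  exact ⟨hout, _, 182, [(2, 46), (3, 20), (5, 9), (7, 6), (11, 2), (13, 3), (17, 1), (19, 1), (23, 1), (29, 1), (31, 1), (41, 1), (47, 1), (59, 1), (71, 1)],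
    [3, 4, 5, 7, 9, 11, 16, 25], NotCT.Orders.m hS, by decide +kernel, by norm_num, by decide +kernel, T3S.m hS⟩

theorem sporadic_d3 [Finite S] (hs : IsSimpleGroup S) (hna : ¬ ∀ a b : S, a * b = b * a) (hS : IsSporadicGroup S) :
    D3 S := by
  rcases hS with h' | h' | h' | h' | h' | h' | h' | h' | h' | h' | h' | h' | h' | h' | h' | h' | h' | h' | h' | h' | h' |
    h' | h' | h' | h' | h'
  · exact m11_d3 h'
  · exact m12_d3 h'
  · exact m22_d3 h'
  · exact m23_d3 h'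
  · exact m24_d3 h'
  · exact j1_d3 hs hna h'
  · exact j2_d3 h'
  · exact j3_d3 h'
  · exact j4_d3 h'
  · exact co1_d3 h'
  · exact co2_d3 h'
  · exact co3_d3 h'
  · exact mcl_d3 h'
  · exact hs_d3 h'
  · exact suz_d3 h'
  · exact he_d3 h'
  · exact ru_d3 h'
  · exact on_d3 hs hna h'
  · exact ly_d3 h'
  · exact fi22_d3 h'
  · exact fi23_d3 h'
  · exact fi24_d3 h'
  · exact hn_d3 hs hna h'
  · exact th_d3 hs hna h'
  · exact b_d3 h'
  · exact m_d3 h'

/-- The criterion with the data. -/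
theorem false_of_d3 (T : Types3.{u}) {A : Type u} [Group A] [Finite A] {S : Subgroup A} (h : AS A S) {p F : ℕ}
    (hp : p.Prime) (hF : F ≠ 0) (h3 : 3 ≤ p ^ F) (hpS : p ∣ Nat.card S) (hD : charDegrees A ⊆ DT (p ^ F))
    (hd : D3 S) : False := by
  obtain ⟨hout, ord, k, l, qs, hord, hv, hk, hc, hK⟩ := hd
  exact main T h hp hF h3 hpS hD ((Nat.dvd_prime Nat.prime_two).1 (h.index_dvd_out.trans hout)) hord hv hk hc hK

/-- **The socle is not sporadic.** -/
theorem spor_false3' (T : Types3.{u}) {A : Type u} [Group A] [Finite A] {S : Subgroup A} (h : AS A S) {p F : ℕ}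
    (hp : p.Prime) (hF : F ≠ 0) (h3 : 3 ≤ p ^ F) (hpS : p ∣ Nat.card S) (hD : charDegrees A ⊆ DT (p ^ F))
    (hK : IsSporadicGroup S ∨ Lie.IsoTits S) : False := by
  have hs := h.simple
  have hna := h.nonab'
  refine false_of_d3 T h hp hF h3 hpS hD ?_
  rcases hK with hK | hK
  · exact sporadic_d3 hs hna hK
  · exact tits_d3 hK

end Cfsg.Agent.H510.T3S
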