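import Cfsg.Agent.H510.T3S.Tools
import Cfsg.Agent.CpAutTits.Row
import Cfsg.Agent.H603.FD.Spor
import Cfsg.Agent.H690.Spor.RankThree
import Cfsg.Agent.S1624
import Cfsg.Agent.H393.Iso.TitsJ4
import Cfsg.Agent.H393.Iso.Co1
import Cfsg.Agent.H393.Iso.Co2
import Cfsg.Agent.H393.Iso.Co3
import Cfsg.Agent.H393.Iso.He
import Cfsg.Agent.H393.Iso.Ru
import Cfsg.Agent.H547.SelfCent.Conway
import Cfsg.Agent.H547.SelfCent.McLHS
import Cfsg.Agent.H547.SelfCent.He
import Cfsg.Agent.H547.SelfCent.Ru
import Cfsg.Agent.H690.Spor.RankRows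
import Cfsg.Agent.H690.Spor.ONRow
import Cfsg.Agent.H859.Five.LyDZ
import Cfsg.Agent.H713.Spor.Fi22
import Cfsg.Agent.H713.Spor.Fi23
import Cfsg.Agent.H713.Spor.FiTF
import Cfsg.Agent.H713.Spor.B
import Cfsg.Agent.H713.Spor.M
import Cfsg.Agent.H474.TP.Base
import Cfsg.Agent.NotCT.Orders

/-!
# The sporadic groups in S4855: the rows (helper510)

For each group `S` and each candidate `q` : not all the degrees of `S` are in the list `ds q`.
-/

set_option autoImplicit false

namespace Cfsg.Agent.H510.T3S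

open Cfsg Cfsg.Agent.H691 Cfsg.Agent.H691.T3 Cfsg.Agent.Characters.Core Subgroup

universe u

variable {S : Type u} [Group S] [Finite S]

/-- an element of prime order with a bound for the centralizers -/
theorem cb_of {r c : ℕ} (hr : r.Prime) (hd : r ∣ Nat.card S)
    (h : ∀ x : S, orderOf x = r → Nat.card (centralizer ({x} : Set S)) ≤ c) : CB S r c := by
  have := Fact.mk hr
  obtain ⟨x, hx⟩ := exists_prime_orderOf_dvd_card' (G := S) r hd
  exact ⟨x, ⟨1, by rw [pow_one, ← hx]; exact pow_orderOf_eq_one x⟩, h x hx⟩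

omit [Finite S] in
theorem forall_mem_cons {L : List ℕ} {a : ℕ} {P : ℕ → Prop} (h1 : P a) (h2 : ∀ q ∈ L, P q) :
    ∀ q ∈ a :: L, P q := by
  intro q hq
  rcases List.mem_cons.1 hq with rfl | h
  · exact h1
  · exact h2 q h

omit [Finite S] in
theorem forall_mem_nil {P : ℕ → Prop} : ∀ q ∈ ([] : List ℕ), P q := fun _ h => absurd h List.not_mem_nil

theorem tits (h : Lie.IsoTits S) : ∀ q ∈ [3], Kill S (ds q) := by
  have ho := CpAutTits.Row.out h
  have hc := NotCT.Orders.tits h
  refine forall_mem_cons ?_ forall_mem_nil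
  exact kill_cent (l := 5) (c := 50) (M := 39) (by norm_num) hc
    (cb_of (by norm_num) (by rw [hc]; norm_num) fun x hx => (ho.cent x hx).le) (by decide +kernel) (by norm_num)

theorem m22 (h : Spor.IsoM22 S) : ∀ q ∈ [4], Kill S (ds q) :=
  forall_mem_cons (kill_mem (H603.FD.Spor.m22 (H417.RecogMathieu.isM22 h)).2.2.1 (by decide +kernel)) forall_mem_nil

theorem m23 (h : Spor.IsoM23 S) : ∀ q ∈ [4], Kill S (ds q) :=
  forall_mem_cons (kill_mem (H603.FD.Spor.m23 (H417.RecogMathieu.isM23 h)).1 (by decide +kernel)) forall_mem_nil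

theorem m24 (h : Spor.IsoM24 S) : ∀ q ∈ [4], Kill S (ds q) :=
  forall_mem_cons (kill_mem (H603.FD.Spor.m24 (H417.RecogMathieu.isM24 h)).1 (by decide +kernel)) forall_mem_nil

theorem j1 (hs : IsSimpleGroup S) (hna : ¬ ∀ a b : S, a * b = b * a) (h : Spor.IsoJ1 S) :
    ∀ q ∈ [4, 7, 11], Kill S (ds q) := by
  have hc := NotCT.Orders.j1 h
  refine forall_mem_cons ?_ (forall_mem_cons ?_ (forall_mem_cons ?_ forall_mem_nil))
  · exact kill_gcd hs hna (r := 7) (l := 5) (by norm_num) (by norm_num) hc (by decide +kernel) (by decide +kernel)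
      (by decide +kernel)
  · exact kill_gcd hs hna (r := 7) (l := 19) (by norm_num) (by norm_num) hc (by decide +kernel) (by decide +kernel)
      (by decide +kernel)
  · exact kill_gcd hs hna (r := 7) (l := 2) (by norm_num) (by norm_num) hc (by decide +kernel) (by decide +kernel)
      (by decide +kernel)

/-- the check for the ranks 3 action of `J₂` -/
theorem j2_chk : ((List.range 100).all fun f => (Nat.beq f 0) || (Nat.beq f 99) || !(Nat.beq (226800 % (f * (99 - f))) 0) ||
    (!(Nat.beq (Nat.sqrt (226800 / (f * (99 - f))) * Nat.sqrt (226800 / (f * (99 - f)))) (226800 / (f * (99 - f))))) ||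
      (Nat.beq f 36) || (Nat.beq f 63)) = true := by
  decide +kernel

theorem j2_solve {f g D : ℕ} (h1 : f + g = 99) (h2 : f * g * D = 226800) (h3 : IsSquare D) : f = 36 ∨ f = 63 := by
  have h := List.all_eq_true.1 j2_chk f (List.mem_range.2 (by omega))
  have hg : 99 - f = g := by omega
  have hf0 : f ≠ 0 := by rintro rfl; simp at h2
  have hg0 : g ≠ 0 := by rintro rfl; simp at h2
  have hf9 : f ≠ 99 := by omega
  have h4 : 226800 % (f * g) = 0 := by
    rw [← h2]
    exact Nat.mul_mod_right _ _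
  have h5 : 226800 / (f * g) = D := by
    rw [← h2]
    exact Nat.mul_div_cancel_left _ (Nat.mul_pos (Nat.pos_of_ne_zero hf0) (Nat.pos_of_ne_zero hg0))
  obtain ⟨m, hm⟩ := h3
  have h6 : Nat.sqrt D * Nat.sqrt D = D := by
    rw [hm, Nat.sqrt_eq]
  simp only [hg, h4, h5, h6] at h
  simp [hf0, hf9] at h
  exact h

theorem j2 (h : Spor.IsoJ2 S) : ∀ q ∈ [4], Kill S (ds q) := by
  obtain ⟨e⟩ := h
  have : Finite Spor.J2 := Finite.of_equiv S e.toEquiv
  obtain ⟨H, h1, -, q1, q2, h2, h3⟩ := Cfsg.Agent.S1624.result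
  obtain ⟨R, hR⟩ := H690.Spor.RankThree.R3.of_index H (k := 36) (l := 63) h1 h2 h3 (by norm_num) (by norm_num)
    (by norm_num)
  classical
  have := Fintype.ofFinite (Spor.J2 ⧸ H)
  obtain ⟨χ₁, χ₂, f, g, D, hf, hg, -, hfg, hprod, hsq⟩ := hR.frame
  have hne : f ≠ g := by omega
  have hm : 36 ∈ charDegrees Spor.J2 := by
    rcases j2_solve hfg hprod (hsq hne) with rfl | rfl
    · exact ⟨χ₁, Cfsg.Agent.Blocks.Basic.charDegree_of_eq hf⟩
    · have h4 : g = 36 := by omega
      subst h4
      exact ⟨χ₂, Cfsg.Agent.Blocks.Basic.charDegree_of_eq hg⟩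
  exact forall_mem_cons (kill_mem (mem_charDegrees_equiv e hm) (by decide +kernel)) forall_mem_nil

theorem j4 (h : Spor.IsoJ4 S) : ∀ q ∈ [4, 5], Kill S (ds q) := by
  have hc := NotCT.Orders.j4 h
  have hcb : CB S 29 41377816699065 := cb_of (by norm_num) (by rw [hc]; norm_num) fun x hx =>
    Nat.le_of_dvd (by norm_num) (H474.TPRows.card_cent_dvd (a := 21) (by rw [hc]; norm_num) (H393.Iso.na_j4_29 h) hx)
  refine forall_mem_cons ?_ (forall_mem_cons ?_ forall_mem_nil)
  · exact kill_cent (M := 84) (by norm_num) hc hcb (by decide +kernel) (by norm_num)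
  · exact kill_cent (M := 186) (by norm_num) hc hcb (by decide +kernel) (by norm_num)

theorem co1 (h : Spor.IsoCo1 S) : ∀ q ∈ [3, 4, 9], Kill S (ds q) := by
  have hc := NotCT.Orders.co1 h
  have hcb : CB S 23 23 := cb_of (by norm_num) (by rw [hc]; norm_num) fun x hx =>
    (H547.SelfCent.Conway.co1 h (H393.Iso.na_co1 h) hx).le
  refine forall_mem_cons ?_ (forall_mem_cons ?_ (forall_mem_cons ?_ forall_mem_nil))
  · exact kill_cent (M := 39) (by norm_num) hc hcb (by decide +kernel) (by norm_num)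
  · exact kill_cent (M := 84) (by norm_num) hc hcb (by decide +kernel) (by norm_num)
  · exact kill_cent (M := 910) (by norm_num) hc hcb (by decide +kernel) (by norm_num)

theorem co2 (h : Spor.IsoCo2 S) : ∀ q ∈ [4], Kill S (ds q) := by
  have hc := NotCT.Orders.co2 h
  have hcb : CB S 23 23 := cb_of (by norm_num) (by rw [hc]; norm_num) fun x hx =>
    (H547.SelfCent.Conway.co2 h (H393.Iso.na_co2 h) hx).le
  exact forall_mem_cons (kill_cent (M := 84) (by norm_num) hc hcb (by decide +kernel) (by norm_num)) forall_mem_nil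

theorem co3 (h : Spor.IsoCo3 S) : ∀ q ∈ [4], Kill S (ds q) := by
  have hc := NotCT.Orders.co3 h
  have hcb : CB S 23 23 := cb_of (by norm_num) (by rw [hc]; norm_num) fun x hx =>
    (H547.SelfCent.Conway.co3 h (H393.Iso.na_co3 h) hx).le
  exact forall_mem_cons (kill_cent (M := 84) (by norm_num) hc hcb (by decide +kernel) (by norm_num)) forall_mem_nil

/-- the elements of order 11 of a subgroup of `Co₃` -/
theorem cent_eleven {K : Subgroup (Equiv.Perm leechLattice)} (e : S ≃* K) (hK : K ≤ Spor.Co3) {x : S}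
    (hx : orderOf x = 11) : Nat.card (centralizer ({x} : Set S)) ≤ 132 := by
  have hle : K ≤ Co0 := hK.trans inf_le_left
  have h1 := H547.SelfCent.McLHS.of_injective ((Subgroup.inclusion hle).comp e.toMonoidHom)
    ((Subgroup.inclusion_injective hle).comp e.injective) (SporadicA.Co0Mono.signCo0 SporadicA.Co1Simple.allOne)
    SporadicA.Co1Simple.allOne_mem_center (by
      rintro ⟨g, hg⟩
      refine H547.SelfCent.McLHS.neg_not_mem (v := Spor.leechV) H547.SelfCent.McLHS.leechV_ne hle
        (fun k hk => (hK hk).2) ⟨e g, hg⟩) hx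
  omega

theorem mcl (h : Spor.IsoMcL S) : ∀ q ∈ [4], Kill S (ds q) := by
  have hc := NotCT.Orders.mcl h
  obtain ⟨e⟩ := h
  have hcb : CB S 11 132 := cb_of (by norm_num) (by rw [hc]; norm_num) fun x hx => cent_eleven e inf_le_left hx
  exact forall_mem_cons (kill_cent (M := 84) (by norm_num) hc hcb (by decide +kernel) (by norm_num)) forall_mem_nil

theorem hs (h : Spor.IsoHS S) : ∀ q ∈ [4], Kill S (ds q) := by
  have hc := NotCT.Orders.hs h
  obtain ⟨e⟩ := h
  have hcb : CB S 11 132 := cb_of (by norm_num) (by rw [hc]; norm_num) fun x hx => cent_eleven e inf_le_left hx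
  exact forall_mem_cons (kill_cent (M := 84) (by norm_num) hc hcb (by decide +kernel) (by norm_num)) forall_mem_nil

theorem suz (h : Spor.IsoSuz S) : ∀ q ∈ [3, 4, 9], Kill S (ds q) := by
  have hc := NotCT.Orders.suz h
  have hdz := H690.Spor.RankRows.suz h (p := 11) (Or.inr rfl)
  refine forall_mem_cons ?_ (forall_mem_cons ?_ (forall_mem_cons ?_ forall_mem_nil))
  all_goals exact kill_dz (by norm_num) hc (by norm_num) (by norm_num) hdz (by decide +kernel)

theorem he (h : Spor.IsoHe S) : ∀ q ∈ [4], Kill S (ds q) := by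
  have hc := NotCT.Orders.he h
  have hcb : CB S 17 17 := cb_of (by norm_num) (by rw [hc]; norm_num) fun x hx =>
    (H547.SelfCent.HeRow.he h hc hx).le
  exact forall_mem_cons (kill_cent (M := 84) (by norm_num) hc hcb (by decide +kernel) (by norm_num)) forall_mem_nil

theorem ru (h : Spor.IsoRu S) : ∀ q ∈ [3, 4, 9], Kill S (ds q) := by
  have hc := NotCT.Orders.ru h
  have hcb : CB S 29 29 := cb_of (by norm_num) (by rw [hc]; norm_num) fun x hx =>
    (H547.SelfCent.Ru.ru h (H393.Iso.na_ru h) hx).le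
  refine forall_mem_cons ?_ (forall_mem_cons ?_ (forall_mem_cons ?_ forall_mem_nil))
  · exact kill_cent (M := 39) (by norm_num) hc hcb (by decide +kernel) (by norm_num)
  · exact kill_cent (M := 84) (by norm_num) hc hcb (by decide +kernel) (by norm_num)
  · exact kill_cent (M := 910) (by norm_num) hc hcb (by decide +kernel) (by norm_num)

theorem on (hs : IsSimpleGroup S) (hna : ¬ ∀ a b : S, a * b = b * a) (h : Spor.IsoON S) :
    ∀ q ∈ [4, 5, 7, 11], Kill S (ds q) := by
  have hc := NotCT.Orders.on h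
  have hdz := H690.Spor.ONRow.hasDZ h (p := 11) (Or.inl rfl)
  refine forall_mem_cons ?_ (forall_mem_cons ?_ (forall_mem_cons ?_ (forall_mem_cons ?_ forall_mem_nil)))
  · exact kill_dz (by norm_num) hc (by norm_num) (by norm_num) hdz (by decide +kernel)
  · exact kill_dz (by norm_num) hc (by norm_num) (by norm_num) hdz (by decide +kernel)
  · exact kill_dz (by norm_num) hc (by norm_num) (by norm_num) hdz (by decide +kernel)
  · exact kill_gcd hs hna (r := 19) (l := 2) (by norm_num) (by norm_num) hc (by decide +kernel) (by decide +kernel)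
      (by decide +kernel)

theorem ly (h : Spor.IsoLy S) : ∀ q ∈ [4, 5], Kill S (ds q) := by
  have hc := NotCT.Orders.ly h
  obtain ⟨e⟩ := h
  have hdz := H713.HasDZ.mulEquiv e.symm H859.Five.LyDZ.hasDZ_67
  refine forall_mem_cons ?_ (forall_mem_cons ?_ forall_mem_nil)
  all_goals exact kill_dz (by norm_num) hc (by norm_num) (by norm_num) hdz (by decide +kernel)

theorem fi22 (h : Spor.IsoFi22 S) : ∀ q ∈ [3, 4, 9], Kill S (ds q) := by
  have hc := NotCT.Orders.fi22 h
  obtain ⟨e⟩ := h
  have hdz := H713.Spor.Fi22.hasDZ_11 e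
  refine forall_mem_cons ?_ (forall_mem_cons ?_ (forall_mem_cons ?_ forall_mem_nil))
  all_goals exact kill_dz (by norm_num) hc (by norm_num) (by norm_num) hdz (by decide +kernel)

theorem fi23 (h : Spor.IsoFi23 S) : ∀ q ∈ [3, 4, 9, 16], Kill S (ds q) := by
  have hc := NotCT.Orders.fi23 h
  obtain ⟨e⟩ := h
  have hdz := H713.HasDZ.mulEquiv e.symm H713.Spor.Fi23.hasDZ_23
  refine forall_mem_cons ?_ (forall_mem_cons ?_ (forall_mem_cons ?_ (forall_mem_cons ?_ forall_mem_nil)))
  all_goals exact kill_dz (by norm_num) hc (by norm_num) (by norm_num) hdz (by decide +kernel)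

theorem fi24 (h : Spor.IsoFi24' S) : ∀ q ∈ [3, 4, 9, 16], Kill S (ds q) := by
  have hc := NotCT.Orders.fi24 h
  obtain ⟨e⟩ := h
  have hdz := H713.HasDZ.mulEquiv e.symm H713.Spor.FiTF.hasDZ_29
  refine forall_mem_cons ?_ (forall_mem_cons ?_ (forall_mem_cons ?_ (forall_mem_cons ?_ forall_mem_nil)))
  all_goals exact kill_dz (by norm_num) hc (by norm_num) (by norm_num) hdz (by decide +kernel)

theorem hn (hs : IsSimpleGroup S) (hna : ¬ ∀ a b : S, a * b = b * a) (h : Spor.IsoHN S) :
    ∀ q ∈ [4, 7, 11], Kill S (ds q) := by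
  have hc := NotCT.Orders.hn h
  have hcb : CB S 19 16664484375 := cb_of (by norm_num) (by rw [hc]; norm_num) fun x hx =>
    Nat.le_of_dvd (by norm_num) (H474.TPRows.card_cent_dvd (a := 14) (by rw [hc]; norm_num) (H393.Iso.na_hn h) hx)
  refine forall_mem_cons ?_ (forall_mem_cons ?_ (forall_mem_cons ?_ forall_mem_nil))
  · exact kill_cent (M := 84) (by norm_num) hc hcb (by decide +kernel) (by norm_num)
  · exact kill_gcd hs hna (r := 19) (l := 2) (by norm_num) (by norm_num) hc (by decide +kernel) (by decide +kernel)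
      (by decide +kernel)
  · exact kill_gcd hs hna (r := 19) (l := 2) (by norm_num) (by norm_num) hc (by decide +kernel) (by decide +kernel)
      (by decide +kernel)

theorem th (hs : IsSimpleGroup S) (hna : ¬ ∀ a b : S, a * b = b * a) (h : Spor.IsoTh S) :
    ∀ q ∈ [3, 4, 5, 7, 9, 25], Kill S (ds q) := by
  have hc := NotCT.Orders.th h
  have hN : Nat.card S = 2 ^ 15 * 2769346432125 := by rw [hc]; norm_num
  have hcb : CB S 19 102568386375 := cb_of (by norm_num) (by rw [hc]; norm_num) fun x hx =>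
    (H474.TPRows.cent_le (K := 26) (by norm_num) hN (by norm_num) (by norm_num) (H393.Iso.na_th h)
      (by decide +kernel) hx).trans (by norm_num)
  refine forall_mem_cons ?_ (forall_mem_cons ?_ (forall_mem_cons ?_ (forall_mem_cons ?_ (forall_mem_cons ?_
    (forall_mem_cons ?_ forall_mem_nil)))))
  · exact kill_cent (M := 39) (by norm_num) hc hcb (by decide +kernel) (by norm_num)
  · exact kill_cent (M := 84) (by norm_num) hc hcb (by decide +kernel) (by norm_num)
  · exact kill_cent (M := 186) (by norm_num) hc hcb (by decide +kernel) (by norm_num)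
  · exact kill_gcd hs hna (r := 19) (l := 2) (by norm_num) (by norm_num) hc (by decide +kernel) (by decide +kernel)
      (by decide +kernel)
  · exact kill_cent (M := 910) (by norm_num) hc hcb (by decide +kernel) (by norm_num)
  · exact kill_gcd hs hna (r := 31) (l := 13) (by norm_num) (by norm_num) hc (by decide +kernel) (by decide +kernel)
      (by decide +kernel)

theorem b (h : Spor.IsoB S) : ∀ q ∈ [3, 4, 5, 7, 9, 11, 16, 25], Kill S (ds q) := by
  have hc := NotCT.Orders.b h
  obtain ⟨e⟩ := h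
  have hdz := H713.HasDZ.mulEquiv e.symm H713.Spor.B.hasDZ_47
  refine forall_mem_cons ?_ (forall_mem_cons ?_ (forall_mem_cons ?_ (forall_mem_cons ?_ (forall_mem_cons ?_
    (forall_mem_cons ?_ (forall_mem_cons ?_ (forall_mem_cons ?_ forall_mem_nil)))))))
  all_goals exact kill_dz (by norm_num) hc (by norm_num) (by norm_num) hdz (by decide +kernel)

theorem m (h : Spor.IsoM S) : ∀ q ∈ [3, 4, 5, 7, 9, 11, 16, 25], Kill S (ds q) := by
  have hc := NotCT.Orders.m h
  have hdz := H713.Spor.M.hasDZ_71 h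
  refine forall_mem_cons ?_ (forall_mem_cons ?_ (forall_mem_cons ?_ (forall_mem_cons ?_ (forall_mem_cons ?_
    (forall_mem_cons ?_ (forall_mem_cons ?_ (forall_mem_cons ?_ forall_mem_nil)))))))
  all_goals exact kill_dz (by norm_num) hc (by norm_num) (by norm_num) hdz (by decide +kernel)

end Cfsg.Agent.H510.T3S
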